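import Mathlib
import Cfsg.Agent.Lib.Helper57.TSO.Defs

/-!
# TSO (S5980): packages [RANK1] and [RANK1'] -- `a * rank N ≤ rank (1 ⊗ N)` and the mirror.
-/

set_option autoImplicit false

namespace Cfsg.Agent.Lib.Helper80.TSO

open Matrix
open scoped Kronecker

universe u

theorem one_kron_mulVec80 {F : Type u} [Field F] {a b : ℕ} (N : Matrix (Fin b) (Fin b) F)
    (y : Fin a → Fin b → F) :
    ((1 : Matrix (Fin a) (Fin a) F) ⊗ₖ N) *ᵥ (fun ij : Fin a × Fin b => y ij.1 ij.2) =
      fun ij => (N *ᵥ y ij.1) ij.2 := by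
  funext ⟨i, j⟩
  simp only [Matrix.mulVec, dotProduct, Matrix.kroneckerMap_apply, Fintype.sum_prod_type,
    Matrix.one_apply]
  rw [Finset.sum_eq_single i]
  · simp
  · intro i' _ hne
    simp [Ne.symm hne]
  · simp

theorem kron_one_mulVec80 {F : Type u} [Field F] {a b : ℕ} (N : Matrix (Fin a) (Fin a) F)
    (y : Fin b → Fin a → F) :
    (N ⊗ₖ (1 : Matrix (Fin b) (Fin b) F)) *ᵥ (fun ij : Fin a × Fin b => y ij.2 ij.1) =
      fun ij => (N *ᵥ y ij.2) ij.1 := by
  funext ⟨i, j⟩
  simp only [Matrix.mulVec, dotProduct, Matrix.kroneckerMap_apply, Fintype.sum_prod_type,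
    Matrix.one_apply]
  rw [Finset.sum_comm, Finset.sum_eq_single j]
  · simp
  · intro j' _ hne
    simp [Ne.symm hne]
  · simp

theorem pkgRank1 : Cfsg.Agent.Lib.Helper57.TSO.PkgRank1.{u} := by
  intro F _ a b N
  classical
  let ψ : (Fin a → LinearMap.range N.mulVecLin) →ₗ[F] (Fin a × Fin b → F) :=
    { toFun := fun w ij => (w ij.1 : Fin b → F) ij.2
      map_add' := fun w w' => by
        funext ij
        simp
      map_smul' := fun c w => by
        funext ij
        simp }
  have hinj : Function.Injective ψ := by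
    intro w w' h
    funext i
    apply Subtype.ext
    funext j
    exact congrFun h (i, j)
  have hle : LinearMap.range ψ ≤
      LinearMap.range ((1 : Matrix (Fin a) (Fin a) F) ⊗ₖ N).mulVecLin := by
    rintro _ ⟨w, rfl⟩
    have hy : ∀ i, ∃ y : Fin b → F, N *ᵥ y = (w i : Fin b → F) := by
      intro i
      obtain ⟨y, hy⟩ := (w i).2
      exact ⟨y, hy⟩
    choose y hy using hy
    refine ⟨fun ij => y ij.1 ij.2, ?_⟩
    rw [Matrix.mulVecLin_apply, one_kron_mulVec80]
    funext ij
    rw [hy ij.1]
    rfl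
  have h1 := LinearMap.finrank_range_of_inj hinj
  have h3 := Submodule.finrank_mono hle
  rw [h1] at h3
  have h4 : Module.finrank F (Fin a → LinearMap.range N.mulVecLin) = a * N.rank := by
    rw [Module.finrank_pi_fintype]
    simp [Matrix.rank]
  rw [h4] at h3
  exact h3

theorem pkgRank1' : Cfsg.Agent.Lib.Helper57.TSO.PkgRank1'.{u} := by
  intro F _ a b N
  classical
  let ψ : (Fin b → LinearMap.range N.mulVecLin) →ₗ[F] (Fin a × Fin b → F) :=
    { toFun := fun w ij => (w ij.2 : Fin a → F) ij.1
      map_add' := fun w w' => by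
        funext ij
        simp
      map_smul' := fun c w => by
        funext ij
        simp }
  have hinj : Function.Injective ψ := by
    intro w w' h
    funext j
    apply Subtype.ext
    funext i
    exact congrFun h (i, j)
  have hle : LinearMap.range ψ ≤
      LinearMap.range (N ⊗ₖ (1 : Matrix (Fin b) (Fin b) F)).mulVecLin := by
    rintro _ ⟨w, rfl⟩
    have hy : ∀ j, ∃ y : Fin a → F, N *ᵥ y = (w j : Fin a → F) := by
      intro j
      obtain ⟨y, hy⟩ := (w j).2
      exact ⟨y, hy⟩
    choose y hy using hy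
    refine ⟨fun ij => y ij.2 ij.1, ?_⟩
    rw [Matrix.mulVecLin_apply, kron_one_mulVec80]
    funext ij
    rw [hy ij.2]
    rfl
  have h1 := LinearMap.finrank_range_of_inj hinj
  have h3 := Submodule.finrank_mono hle
  rw [h1] at h3
  have h4 : Module.finrank F (Fin b → LinearMap.range N.mulVecLin) = b * N.rank := by
    rw [Module.finrank_pi_fintype]
    simp [Matrix.rank]
  rw [h4] at h3
  exact h3

end Cfsg.Agent.Lib.Helper80.TSO
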