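import Mathlib
import Cfsg.Agent.Lib.Helper57.TSO.Defs
import Cfsg.Agent.Lib.Helper40.Tensor

/-!
# TSO (S5980): packages [RANK3] and [RANK3'] -- `2 b ≤ rank (A ⊗ B - 1)` when `v, A v, A² v`
are independent and `B` is invertible, and the mirror.
-/

set_option autoImplicit false

namespace Cfsg.Agent.Lib.Helper80.TSO

open Matrix
open scoped Kronecker

universe u

/-- `rank_ge_of_inj` for an arbitrary finite-dimensional source. -/
theorem rank_ge_of_inj80 {F : Type u} [Field F] {ι : Type*} [Fintype ι] [DecidableEq ι]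
    {W : Type*} [AddCommGroup W] [Module F W] [FiniteDimensional F W] (M : Matrix ι ι F)
    (φ : W →ₗ[F] (ι → F)) (h : ∀ w, M *ᵥ φ w = 0 → w = 0) :
    Module.finrank F W ≤ M.rank := by
  have hinj : Function.Injective (M.mulVecLin ∘ₗ φ) := by
    rw [← LinearMap.ker_eq_bot, LinearMap.ker_eq_bot']
    intro w hw
    exact h w hw
  have h1 := LinearMap.finrank_range_of_inj hinj
  have h2 : LinearMap.range (M.mulVecLin ∘ₗ φ) ≤ LinearMap.range M.mulVecLin :=
    LinearMap.range_comp_le_range _ _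
  have h3 := Submodule.finrank_mono h2
  rw [h1] at h3
  exact h3

theorem finrank_pair80 {F : Type u} [Field F] (b : ℕ) :
    Module.finrank F ((Fin b → F) × (Fin b → F)) = 2 * b := by
  rw [Module.finrank_prod, Module.finrank_fin_fun]
  ring

theorem pkgRank3 : Cfsg.Agent.Lib.Helper57.TSO.PkgRank3.{u} := by
  intro F _ a b A B hB v hv
  classical
  let φ : ((Fin b → F) × (Fin b → F)) →ₗ[F] (Fin a × Fin b → F) :=
    { toFun := fun y ij => v ij.1 * y.1 ij.2 + (A *ᵥ v) ij.1 * y.2 ij.2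
      map_add' := fun y y' => by
        funext ij
        simp only [Prod.fst_add, Prod.snd_add, Pi.add_apply]
        ring
      map_smul' := fun c y => by
        funext ij
        simp only [Prod.smul_fst, Prod.smul_snd, Pi.smul_apply, smul_eq_mul, RingHom.id_apply]
        ring }
  rw [← finrank_pair80 (F := F) b]
  apply rank_ge_of_inj80 _ φ
  rintro ⟨y₁, y₂⟩ hw
  have h1 : (A ⊗ₖ B - (1 : Matrix (Fin a × Fin b) (Fin a × Fin b) F)) *ᵥ φ (y₁, y₂) =
      fun ij => ((A *ᵥ v) ij.1 * (B *ᵥ y₁) ij.2 + (A *ᵥ (A *ᵥ v)) ij.1 * (B *ᵥ y₂) ij.2) -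
        (v ij.1 * y₁ ij.2 + (A *ᵥ v) ij.1 * y₂ ij.2) := by
    rw [Matrix.sub_mulVec, Matrix.one_mulVec]
    have e1 : φ (y₁, y₂) = (fun ij : Fin a × Fin b => v ij.1 * y₁ ij.2) +
        (fun ij : Fin a × Fin b => (A *ᵥ v) ij.1 * y₂ ij.2) := rfl
    rw [e1, Matrix.mulVec_add, Cfsg.Agent.Lib.Helper40.Tensor.kron_mulVec,
      Cfsg.Agent.Lib.Helper40.Tensor.kron_mulVec]
    rfl
  rw [h1] at hw
  have key : ∀ j, y₁ j = 0 ∧ (B *ᵥ y₂) j = 0 := by
    intro j
    have h := hv (-(y₁ j)) ((B *ᵥ y₁) j - y₂ j) ((B *ᵥ y₂) j) (by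
      funext i
      have h3 := congrFun hw (i, j)
      simp only [Pi.add_apply, Pi.smul_apply, smul_eq_mul, Pi.zero_apply] at h3 ⊢
      linear_combination h3)
    exact ⟨neg_eq_zero.mp h.1, h.2.2⟩
  have hy1 : y₁ = 0 := funext fun j => (key j).1
  have hy2 : y₂ = 0 := by
    apply Matrix.eq_zero_of_mulVec_eq_zero hB
    funext j
    exact (key j).2
  rw [hy1, hy2]
  rfl

theorem pkgRank3' : Cfsg.Agent.Lib.Helper57.TSO.PkgRank3'.{u} := by
  intro F _ a b A B hA w hw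
  classical
  let φ : ((Fin a → F) × (Fin a → F)) →ₗ[F] (Fin a × Fin b → F) :=
    { toFun := fun x ij => x.1 ij.1 * w ij.2 + x.2 ij.1 * (B *ᵥ w) ij.2
      map_add' := fun x x' => by
        funext ij
        simp only [Prod.fst_add, Prod.snd_add, Pi.add_apply]
        ring
      map_smul' := fun c x => by
        funext ij
        simp only [Prod.smul_fst, Prod.smul_snd, Pi.smul_apply, smul_eq_mul, RingHom.id_apply]
        ring }
  rw [← finrank_pair80 (F := F) a]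
  apply rank_ge_of_inj80 _ φ
  rintro ⟨x₁, x₂⟩ hx
  have h1 : (A ⊗ₖ B - (1 : Matrix (Fin a × Fin b) (Fin a × Fin b) F)) *ᵥ φ (x₁, x₂) =
      fun ij => ((A *ᵥ x₁) ij.1 * (B *ᵥ w) ij.2 + (A *ᵥ x₂) ij.1 * (B *ᵥ (B *ᵥ w)) ij.2) -
        (x₁ ij.1 * w ij.2 + x₂ ij.1 * (B *ᵥ w) ij.2) := by
    rw [Matrix.sub_mulVec, Matrix.one_mulVec]
    have e1 : φ (x₁, x₂) = (fun ij : Fin a × Fin b => x₁ ij.1 * w ij.2) +
        (fun ij : Fin a × Fin b => x₂ ij.1 * (B *ᵥ w) ij.2) := rfl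
    rw [e1, Matrix.mulVec_add, Cfsg.Agent.Lib.Helper40.Tensor.kron_mulVec,
      Cfsg.Agent.Lib.Helper40.Tensor.kron_mulVec]
    rfl
  rw [h1] at hx
  have key : ∀ i, x₁ i = 0 ∧ (A *ᵥ x₂) i = 0 := by
    intro i
    have h := hw (-(x₁ i)) ((A *ᵥ x₁) i - x₂ i) ((A *ᵥ x₂) i) (by
      funext j
      have h3 := congrFun hx (i, j)
      simp only [Pi.add_apply, Pi.smul_apply, smul_eq_mul, Pi.zero_apply] at h3 ⊢
      linear_combination h3)
    exact ⟨neg_eq_zero.mp h.1, h.2.2⟩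
  have hx1 : x₁ = 0 := funext fun i => (key i).1
  have hx2 : x₂ = 0 := by
    apply Matrix.eq_zero_of_mulVec_eq_zero hA
    funext i
    exact (key i).2
  rw [hx1, hx2]
  rfl

end Cfsg.Agent.Lib.Helper80.TSO
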